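import Cfsg.Agent.H489.Ore.RuT1
import Cfsg.Prelude.Def_DegreeGraph

/-!
# S4908, row Ru: degrees of the Rudvalis group modulo 29 (helper1)

* `res29` : the degrees are `0, ±1, ±14` modulo 29;
* `seven` : no degree is `7 * 2 ^ k`, `k ≥ 2`.
-/

set_option autoImplicit false
set_option maxRecDepth 100000

namespace Cfsg.Agent.H1.S8.RuDeg

open Cfsg Subgroup Cfsg.Agent.SporadicB Cfsg.Agent.Characters Cfsg.Agent.H489.Ore.Ru

theorem fin_H : Finite RuOrder.H := Nat.finite_of_card_ne_zero (by rw [RuOrder.card_H]; norm_num)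

theorem simple_H : IsSimpleGroup RuOrder.H := by
  have h := RuLat.Main.main.2.2
  have hn : Nontrivial RuOrder.H := RuLat.Main.equiv.symm.toEquiv.nontrivial
  exact IsSimpleGroup.isSimpleGroup_of_surjective RuLat.Main.equiv.toMonoidHom RuLat.Main.equiv.surjective

/-- the degrees modulo 29 -/
theorem res29 (χ : IrrCharacter RuOrder.H) : charDegree (χ : RuOrder.H → ℂ) % 29 = 0 ∨
    charDegree (χ : RuOrder.H → ℂ) % 29 = 1 ∨ charDegree (χ : RuOrder.H → ℂ) % 29 = 28 ∨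
      charDegree (χ : RuOrder.H → ℂ) % 29 = 14 ∨ charDegree (χ : RuOrder.H → ℂ) % 29 = 15 := by
  have hfin : Finite RuOrder.H := fin_H
  have := simple_H
  have : Finite (IrrCharacter RuOrder.H) := Core.finite_irr
  have := Fintype.ofFinite (IrrCharacter RuOrder.H)
  have : Fact (Nat.Prime 29) := ⟨by norm_num⟩
  obtain ⟨P, W, -, -, -, hW⟩ := H653.Sieve.exists_col not_comm card_H orderOf_x (k := 1)
    (by rw [card_cent_of_29 orderOf_x]) 14 2
    [(0, 0), (1, 2), (14, -1), (15, 1), (28, -2)] 2 true (by decide +kernel)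
  have h := hW.mem χ
  simp only [List.mem_cons, Prod.mk.injEq, List.not_mem_nil, or_false] at h
  rcases h with ⟨h, -⟩ | ⟨h, -⟩ | ⟨h, -⟩ | ⟨h, -⟩ | ⟨h, -⟩
  exacts [Or.inl h, Or.inr (Or.inl h), Or.inr (Or.inr (Or.inr (Or.inl h))), Or.inr (Or.inr (Or.inr (Or.inr h))),
    Or.inr (Or.inr (Or.inl h))]

theorem dvd_card {d : ℕ} (hd : d ∈ charDegrees RuOrder.H) : d ∣ 145926144000 := by
  have hfin : Finite RuOrder.H := fin_H
  obtain ⟨χ, rfl⟩ := hd
  rw [← RuOrder.card_H]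
  exact Blocks.Knorr.charDegree_dvd χ.2

/-- residues and lower bounds of the degrees -/
theorem cases {d : ℕ} (hd : d ∈ charDegrees RuOrder.H) : d = 1 ∨ d % 29 = 0 ∨
    ((d % 29 = 1 ∨ d % 29 = 28 ∨ d % 29 = 14 ∨ d % 29 = 15) ∧ (d = 378 ∨ 2016 ≤ d)) := by
  have hfin : Finite RuOrder.H := fin_H
  have := simple_H
  obtain ⟨χ, rfl⟩ := hd
  by_cases h1 : (χ : RuOrder.H → ℂ) = 1
  · left
    apply Blocks.Basic.charDegree_of_eq
    rw [h1, Pi.one_apply, Nat.cast_one]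
  rcases res29 χ with h | h
  · exact Or.inr (Or.inl h)
  · exact Or.inr (Or.inr ⟨h, deg χ h1 h⟩)

theorem seven_num : ∀ k < 15, 2 ≤ k → (7 * 2 ^ k) % 29 ≠ 0 ∧
    ((7 * 2 ^ k) % 29 = 1 ∨ (7 * 2 ^ k) % 29 = 28 ∨ (7 * 2 ^ k) % 29 = 14 ∨ (7 * 2 ^ k) % 29 = 15 → k = 2) := by
  decide

/-- no degree is `7 * 2 ^ k`, `k ≥ 2` -/
theorem seven {k : ℕ} (hk : 2 ≤ k) : 7 * 2 ^ k ∉ charDegrees RuOrder.H := by
  intro h
  have h1 : 2 ^ k ∣ 145926144000 := (Dvd.intro_left _ rfl).trans (dvd_card h)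
  have h2 : k < 15 := by
    by_contra h3
    push Not at h3
    have h4 : 2 ^ 15 ∣ 145926144000 := (pow_dvd_pow 2 h3).trans h1
    norm_num at h4
  obtain ⟨h3, h4⟩ := seven_num k h2 hk
  rcases cases h with h5 | h5 | ⟨h5, h6⟩
  · have : 7 ∣ 1 := ⟨2 ^ k, h5.symm⟩
    norm_num at this
  · exact h3 h5
  · have h7 := h4 h5
    subst h7
    norm_num at h6

end Cfsg.Agent.H1.S8.RuDeg
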