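import Cfsg.Agent.H704.S8.Defs
import Cfsg.Agent.H1.S8.RuDeg
import Cfsg.Agent.H289.Eight.RuDeg
import Cfsg.Agent.KFacts.RuDbl.One
import Cfsg.Agent.H646.Restrict
import Cfsg.Agent.H905.PCover

/-!
# S4908, row Ru, COVER (helper1)

`cover_model`, `row` : a perfect central extension of `Ru` by a group of prime order has a faithful irreducible character
of degree 28, and `28 * 2 ^ i`, `56 * 2 ^ i` are not degrees of `Ru`.
-/

set_option autoImplicit false
set_option maxRecDepth 100000

open scoped ComplexConjugate commutatorElement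

namespace Cfsg.Agent.H1.S8.RuCover

open Cfsg Subgroup Cfsg.Spor Cfsg.Agent.RuLat Cfsg.Agent.SporadicB Cfsg.Agent.Characters.Core Cfsg.Agent.H289.Eight.RuRep
  Cfsg.Agent.H289.Eight.RuDeg Cfsg.Agent.KFacts.MulDef Cfsg.Agent.KFacts.MulBound

universe u v

/-! ### the character of degree 28 -/

theorem chi_eq_one_iff (g : fourRu) : q g = 1 ↔ g ∈ center fourRu := by
  rw [RuLat.Main.hyp.ker_eq Prep.span_bl (onto RuLat.Main.hyp Prep.span_bl), MonoidHom.mem_ker]
  exact ⟨fun h => congrArg Subtype.val h, fun h => Subtype.ext h⟩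

theorem irr_chi : IsIrrCharacter fourRu chi := by
  classical
  have := Fintype.ofFinite fourRu
  refine isIrr_of_classInner_self (isCharacter_of_rep rho) ?_
  obtain ⟨χ, h, h1, he⟩ := end_char
  have e : (fun g => chi g * conj (chi g)) = 1 + χ := by
    rw [← he]
    funext g
    rw [Representation.char_linHom, Cfsg.Agent.PermutationGroups.PermChar.char_inv_eq_conj, mul_comm]
    rfl
  have hne : χ ≠ (1 : fourRu → ℂ) := by
    intro h2
    rw [h2, Pi.one_apply] at h1
    norm_num at h1
  have h2 : classInner (1 + χ) (1 : fourRu → ℂ) = 1 := by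
    rw [classInner_add_left, classInner_irr_self isIrr_one, classInner_irr_ne h isIrr_one hne, add_zero]
  rw [← e] at h2
  rw [← h2]
  unfold classInner
  congr 1
  refine Finset.sum_congr rfl fun g _ => ?_
  simp

/-- the double cover -/
abbrev L : Type := ↥(commutator fourRu)

theorem iz_sq_mem : iz * iz ∈ commutator fourRu := by
  have h3 : iz * iz = ⁅H51.RuCover.j, H51.RuCover.k⁆ := by
    apply Subtype.ext
    apply Equiv.ext
    intro x
    rw [H51.RuCover.comm_apply]
    apply Subtype.ext
    change gI • (gI • (x : RuVec)) = -(x : RuVec)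
    rw [smul_smul, gI_mul_self, neg_one_smul]
  rw [h3]
  exact Subgroup.commutator_mem_commutator (Subgroup.mem_top _) (Subgroup.mem_top _)

theorem chi_iz2 : chi (iz * iz) = -28 := by
  have h := chi_iz iz
  have h1 := chi_iz 1
  rw [mul_one, chi_one] at h1
  rw [h, h1, ← mul_assoc, Complex.I_mul_I]
  norm_num

theorem chi_iz1 : chi iz ≠ 0 := by
  have h1 := chi_iz 1
  rw [mul_one, chi_one] at h1
  rw [h1]
  refine mul_ne_zero Complex.I_ne_zero (by norm_num)

theorem iz4 : iz * iz * (iz * iz) = 1 := by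
  apply Subtype.ext
  apply Equiv.ext
  intro x
  apply Subtype.ext
  change gI • (gI • (gI • (gI • (x : RuVec)))) = (x : RuVec)
  rw [smul_smul, gI_mul_self, neg_one_smul, smul_smul, gI_mul_self, neg_one_smul, neg_neg]

theorem pcov : commutator L = ⊤ ∧ (commutator fourRu).map (QuotientGroup.mk' (center fourRu)) = ⊤ :=
  H905.PCover.commutator_perfect perfect_ru (QuotientGroup.mk'_surjective _) (by rw [QuotientGroup.ker_mk'])

theorem exists_mul (g : fourRu) : ∃ l ∈ commutator fourRu, ∃ e : ℕ, g = l * iz ^ e := by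
  have h : QuotientGroup.mk' (center fourRu) g ∈ (commutator fourRu).map (QuotientGroup.mk' (center fourRu)) := by
    rw [pcov.2]; exact mem_top _
  obtain ⟨l, hl, e⟩ := h
  have h1 : l⁻¹ * g ∈ center fourRu := by
    rw [← QuotientGroup.ker_mk' (center fourRu), MonoidHom.mem_ker, map_mul, map_inv, e, inv_mul_cancel]
  obtain ⟨k, hk⟩ := center_eq h1
  exact ⟨l, hl, k, by rw [← hk]; group⟩

theorem irr_L : IsIrrCharacter L (fun l : L => chi l) := by
  classical
  have := Fintype.ofFinite fourRu
  have := Fintype.ofFinite L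
  refine H646.Restrict.isIrr_restrict (N := commutator fourRu) ?_ irr_chi ?_
  · intro a b
    obtain ⟨a, rfl⟩ := QuotientGroup.mk_surjective a
    obtain ⟨b, rfl⟩ := QuotientGroup.mk_surjective b
    rw [← QuotientGroup.mk_mul, ← QuotientGroup.mk_mul, QuotientGroup.eq]
    have h : (a * b)⁻¹ * (b * a) = ⁅b⁻¹, a⁻¹⁆ := by rw [commutatorElement_def]; group
    rw [h]
    exact Subgroup.commutator_mem_commutator (mem_top _) (mem_top _)
  · intro μ hμ
    have h1 : μ ((iz : fourRu) : fourRu ⧸ commutator fourRu) = 1 := by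
      have h := hμ iz
      exact (mul_eq_left₀ chi_iz1).1 h
    refine MonoidHom.ext fun g => ?_
    obtain ⟨g, rfl⟩ := QuotientGroup.mk_surjective g
    obtain ⟨l, hl, e, rfl⟩ := exists_mul g
    rw [QuotientGroup.mk_mul, (QuotientGroup.eq_one_iff l).2 hl, one_mul, QuotientGroup.mk_pow, map_pow, h1, one_pow]
    rfl

/-- the central involution of `L` -/
def c0 : L := ⟨iz * iz, iz_sq_mem⟩

/-- `L → Ru` -/
noncomputable def pL : L →* RuOrder.H := q.comp (commutator fourRu).subtype

theorem pL_apply (l : L) : pL l = q l := rfl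

theorem mem_center_L {l : fourRu} (hl : l ∈ commutator fourRu) (hc : l ∈ center fourRu) : l = 1 ∨ l = iz * iz := by
  obtain ⟨e, rfl⟩ := center_eq hc
  have h4 : iz ^ 4 = 1 := by
    rw [show (4 : ℕ) = 2 * 2 from rfl, pow_mul, pow_two, pow_two]
    exact iz4
  rcases Nat.even_or_odd' e with ⟨k, rfl | rfl⟩
  · rcases Nat.even_or_odd' k with ⟨j, rfl | rfl⟩
    · left
      rw [← mul_assoc, pow_mul, show 2 * 2 = 4 from rfl, h4, one_pow]
    · right
      rw [mul_add, ← mul_assoc, pow_add, pow_mul, show 2 * 2 = 4 from rfl, h4, one_pow, one_mul, mul_one, pow_two]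
  · exfalso
    apply iz_notMem
    have h5 : iz ^ (2 * k) ∈ commutator fourRu := by
      rw [pow_mul, pow_two]
      exact pow_mem iz_sq_mem k
    have h6 := mul_mem (inv_mem h5) hl
    rwa [pow_succ, inv_mul_cancel_left] at h6

theorem c0_ne : c0 ≠ 1 := by
  intro h
  have h1 : iz * iz = 1 := congrArg Subtype.val h
  have h2 := chi_iz2
  rw [h1, chi_one] at h2
  norm_num at h2

theorem dblL : Dbl pL c0 where
  ne := c0_ne
  sq := Subtype.ext iz4
  cen := by
    intro x
    apply Subtype.ext
    change iz * iz * (x : fourRu) = (x : fourRu) * (iz * iz)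
    rw [mul_assoc, ← iz_comm, ← mul_assoc, ← iz_comm, mul_assoc]
  perf := pcov.1
  surj := by
    intro y
    obtain ⟨g, rfl⟩ := q_surj y
    obtain ⟨l, hl, e, rfl⟩ := exists_mul g
    refine ⟨⟨l, hl⟩, ?_⟩
    have h1 : q (iz ^ e) = 1 := by
      rw [chi_eq_one_iff]
      apply pow_mem
      rw [mem_center_iff]
      exact fun g => iz_comm g
    rw [pL_apply, map_mul, h1, mul_one]
  ker := by
    rintro ⟨l, hl⟩
    rw [pL_apply, chi_eq_one_iff]
    constructor
    · intro h
      rcases mem_center_L hl h with h | h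
      · exact Or.inl (Subtype.ext h)
      · exact Or.inr (Subtype.ext h)
    · rintro (h | h)
      · have h1 : l = 1 := congrArg Subtype.val h
        change l ∈ _
        rw [h1]
        exact one_mem _
      · have h1 : l = iz * iz := congrArg Subtype.val h
        change l ∈ _
        rw [h1, mem_center_iff]
        intro g
        rw [← mul_assoc, iz_comm, mul_assoc, iz_comm]

/-! ### covers -/

/-- the character of a double cover -/
theorem exists_chi {N : Type u} [Group N] [Finite N] {π : N →* RuOrder.H} {c : N} (h : Dbl π c) :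
    ∃ χ : N → ℂ, IsIrrCharacter N χ ∧ χ c ≠ χ 1 ∧ χ 1 = (28 : ℕ) := by
  obtain ⟨N', _, _, ⟨e⟩⟩ := exists_type_zero N
  have h' := h.of_equiv e (MulEquiv.refl _)
  obtain ⟨θ, hθ⟩ := KFacts.RuDbl.One.oneCover.uniq' h' dblL
  let f : N →* L := θ.toMonoidHom.comp e.toMonoidHom
  have hf : Function.Surjective f := θ.surjective.comp e.surjective
  have h1 : f c = c0 := by
    have h2 : pL (f c) = 1 := by
      have h3 := hθ (e c)
      change pL (f c) = _ at h3
      rw [h3]
      exact (h'.ker (e c)).2 (Or.inr rfl)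
    rcases (dblL.ker _).1 h2 with h3 | h3
    · exfalso
      apply h.ne
      have h4 : e c = 1 := θ.injective (by rw [map_one]; exact h3)
      exact e.injective (by rw [map_one]; exact h4)
    · exact h3
  refine ⟨(fun l : L => chi l) ∘ f, isIrr_comp f hf irr_L, ?_, ?_⟩
  · rw [Function.comp_apply, Function.comp_apply, h1, map_one]
    change chi (iz * iz) ≠ chi 1
    rw [chi_iz2, chi_one]
    norm_num
  · rw [Function.comp_apply, map_one]
    exact chi_one

/-- **COVER for the model** -/
theorem cover_model : H704.S8.Cover.{u} (charDegrees RuOrder.H) RuOrder.H := by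
  intro N _ _ V _ r hr hV hcen hperf hiso
  obtain ⟨f⟩ := hiso
  let π : N →* RuOrder.H := f.toMonoidHom.comp (QuotientGroup.mk' V)
  have hπ : Function.Surjective π := f.surjective.comp (QuotientGroup.mk'_surjective V)
  have hker : ∀ x, π x = 1 ↔ x ∈ V := by
    intro x
    change f (QuotientGroup.mk' V x) = 1 ↔ _
    rw [map_eq_one_iff f f.injective, QuotientGroup.mk'_apply, QuotientGroup.eq_one_iff]
  -- `r = 2`
  have hr2 : r = 2 := by
    let π' : N →* Cfsg.Spor.Ru := RuLat.Main.equiv.symm.toMonoidHom.comp π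
    have hk' : π'.ker = V := by
      ext x
      rw [MonoidHom.mem_ker, ← hker]
      change RuLat.Main.equiv.symm (π x) = 1 ↔ _
      rw [map_eq_one_iff _ RuLat.Main.equiv.symm.injective]
    have h1 := H95.StemCover.card_ker_dvd_cyclic S2051.result hperf π' (RuLat.Main.equiv.symm.surjective.comp hπ)
      (by rw [hk']; exact hcen)
    rw [hk', hV] at h1
    exact (Nat.prime_dvd_prime_iff_eq hr Nat.prime_two).1 h1
  subst hr2
  -- the involution
  have hcyc : ∃ c ∈ V, c ≠ 1 ∧ ∀ x ∈ V, x = 1 ∨ x = c := by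
    obtain ⟨a, b, hab, hu⟩ := Nat.card_eq_two_iff.1 hV
    have h3 : ∀ x ∈ V, x = (a : N) ∨ x = (b : N) := by
      intro x hx
      have h4 : (⟨x, hx⟩ : V) ∈ ({a, b} : Set V) := by rw [hu]; trivial
      rcases h4 with h4 | h4
      · exact Or.inl (congrArg Subtype.val h4)
      · exact Or.inr (congrArg Subtype.val h4)
    rcases h3 1 (one_mem V) with h5 | h5
    · refine ⟨b, b.2, fun h6 => hab (Subtype.ext (by rw [← h5, h6])), fun x hx => ?_⟩
      rcases h3 x hx with h6 | h6
      · exact Or.inl (by rw [h6, ← h5])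
      · exact Or.inr h6
    · refine ⟨a, a.2, fun h6 => hab (Subtype.ext (by rw [← h5, h6])), fun x hx => ?_⟩
      rcases h3 x hx with h6 | h6
      · exact Or.inr h6
      · exact Or.inl (by rw [h6, ← h5])
  obtain ⟨c, hcV, hc1, hc⟩ := hcyc
  have hd : Dbl π c :=
    { ne := hc1
      sq := by
        rcases hc (c * c) (mul_mem hcV hcV) with h | h
        · exact h
        · exact absurd (mul_eq_left.1 h) hc1
      cen := fun x => ((mem_center_iff.1 (hcen hcV)) x).symm
      perf := hperf
      surj := hπ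
      ker := fun x => by
        rw [hker]
        constructor
        · exact hc x
        · rintro (rfl | rfl)
          · exact one_mem V
          · exact hcV }
  obtain ⟨χ, h1, h2, h3⟩ := exists_chi hd
  refine ⟨χ, 28, h1, ⟨c, hcV, h2⟩, h3, fun i => ⟨?_, ?_⟩⟩
  · rw [show 28 * 2 ^ i = 7 * 2 ^ (i + 2) by ring]
    exact RuDeg.seven (by omega)
  · rw [show 2 * (28 * 2 ^ i) = 7 * 2 ^ (i + 3) by ring]
    exact RuDeg.seven (by omega)

theorem charDegrees_congr {X : Type u} {Y : Type v} [Group X] [Group Y] (e : X ≃* Y) :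
    charDegrees X = charDegrees Y := by
  apply Set.Subset.antisymm
  · rintro d ⟨χ, rfl⟩
    exact ⟨⟨_, isIrr_comp e.symm.toMonoidHom e.symm.surjective χ.2⟩, by
      unfold charDegree
      simp⟩
  · rintro d ⟨χ, rfl⟩
    exact ⟨⟨_, isIrr_comp e.toMonoidHom e.surjective χ.2⟩, by
      unfold charDegree
      simp⟩

/-- **COVER for `Ru`** -/
theorem row {X : Type v} [Group X] (hX : Cfsg.Spor.IsoRu X) (D : Set ℕ) (hD : H704.S8.Deg 1 X D) :
    H704.S8.Cover.{u} D X := by
  obtain ⟨e⟩ : Nonempty (X ≃* Cfsg.Spor.Ru) := hX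
  have e' : X ≃* RuOrder.H := e.trans RuLat.Main.equiv
  rcases hD with rfl | ⟨h, -⟩
  · intro N _ _ V _ r hr hV hcen hperf hiso
    obtain ⟨f⟩ := hiso
    rw [charDegrees_congr e']
    exact cover_model V r hr hV hcen hperf ⟨f.trans e'⟩
  · norm_num at h

end Cfsg.Agent.H1.S8.RuCover
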