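import Cfsg.Agent.H1.S8.RuNum
import Cfsg.Agent.H1.S8.RuCover
import Cfsg.Agent.H495.Cod.Basic

/-!
# S4908, row Ru, SOLV (helper1)

* `no_small` : 29, 116, 232, 348 are not degrees;
* `cols` : the columns of 29, 13, 7; `exists_L13`, `exists_L7` : degrees with opposite signs;
* `solv_model`, `row` : no solvable group has the degrees of `Ru`.
-/

set_option autoImplicit false
set_option maxRecDepth 100000

namespace Cfsg.Agent.H1.S8.RuSolv

open Cfsg Subgroup Cfsg.Agent.SporadicB Cfsg.Agent.Characters Cfsg.Agent.H489.Ore.Ru Cfsg.Agent.H65.Ore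
open Cfsg.Agent.H1.S8.RuNum

universe u v

/-! ### the small multiples of 29 -/

def chkS : Bool := [29, 116, 232, 348].all fun d => (List.range (d / 3 + 1)).all fun m₂ =>
  let m₁ := d - 3 * m₂
  !(Nat.ble (29 * m₁) (d + 148 + 29 * m₂)) || !(Nat.ble (29 * m₂) (d + 148 + 29 * m₁)) ||
    !(okp 13 4 m₁ m₂) || !(okp 7 2 m₁ m₂)

theorem chkS_true : chkS = true := by decide +kernel

theorem chkS_sound {d m₁ m₂ a b : ℕ} (hm : d ∈ [29, 116, 232, 348]) (hd : d = m₁ + 3 * m₂)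
    (hs : (m₁ : ℤ) - m₂ = a - b) (hab : 29 * (a + b) ≤ d + 148) (h13 : okp 13 4 m₁ m₂ = true)
    (h7 : okp 7 2 m₁ m₂ = true) : False := by
  have h := List.all_eq_true.1 chkS_true d hm
  have h2 := List.all_eq_true.1 h m₂ (List.mem_range.2 (by omega))
  have e3 : d - 3 * m₂ = m₁ := by omega
  have e4 : Nat.ble (29 * m₁) (d + 148 + 29 * m₂) = true := by
    rw [Nat.ble_eq]
    omega
  have e5 : Nat.ble (29 * m₂) (d + 148 + 29 * m₁) = true := by
    rw [Nat.ble_eq]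
    omega
  simp only [e3, e4, e5, h13, h7, Bool.not_true, Bool.false_or] at h2
  exact Bool.false_ne_true h2

theorem no_small [Finite RuOrder.H] [IsSimpleGroup RuOrder.H] (χ : IrrCharacter RuOrder.H)
    (hm : charDegree (χ : RuOrder.H → ℂ) ∈ [29, 116, 232, 348]) : False := by
  have hχ : (χ : RuOrder.H → ℂ) ≠ 1 := by
    intro h
    have h1 : charDegree (χ : RuOrder.H → ℂ) = 1 := by
      apply Blocks.Basic.charDegree_of_eq
      rw [h, Pi.one_apply, Nat.cast_one]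
    rw [h1] at hm
    exact absurd hm (by decide)
  obtain ⟨a, b, hab, hab2⟩ := inv_val χ hχ
  obtain ⟨P, K, L13⟩ := loc13
  obtain ⟨Q, L, L7⟩ := loc7
  obtain ⟨m₁, m₂, e1, e2, e3⟩ := L13.cases χ
  obtain ⟨n₁, n₂, f1, f2, f3⟩ := L7.cases χ
  have hdeg := cast_deg χ
  generalize charDegree (χ : RuOrder.H → ℂ) = d at *
  have g1 : d = m₁ + 3 * m₂ := by
    rw [hdeg] at e1
    exact_mod_cast e1
  have g2 : d = n₁ + 3 * n₂ := by
    rw [hdeg] at f1
    exact_mod_cast f1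
  have g3 : (m₁ : ℤ) - m₂ = n₁ - n₂ := by
    rw [e2] at f2
    exact_mod_cast f2
  have g4 : (m₁ : ℤ) - m₂ = a - b := by
    rw [e2] at hab
    exact_mod_cast hab
  have g5 : n₁ = m₁ := by omega
  have g6 : n₂ = m₂ := by omega
  subst g5 g6
  have hok13 : okp 13 4 n₁ n₂ = true := by
    apply ok13
    rcases e3 with h | h | h | ⟨h, δ, h', h'', -⟩
    exacts [Or.inl h, Or.inr (Or.inl h), Or.inr (Or.inr (Or.inl h)), Or.inr (Or.inr (Or.inr ⟨h, δ, h', h''⟩))]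
  have hok7 : okp 7 2 n₁ n₂ = true := by
    apply ok7
    rcases f3 with h | h | h | ⟨h, δ, h', h'', -⟩
    exacts [Or.inl h, Or.inr (Or.inl h), Or.inr (Or.inr (Or.inl h)), Or.inr (Or.inr (Or.inr ⟨h, δ, h', h''⟩))]
  exact chkS_sound hm g1 g4 hab2 hok13 hok7

/-! ### the columns -/

open Cfsg.Agent.H653.Sieve (ColOK Orth)

/-- the columns of the primes 29, 13, 7 -/
theorem cols [Finite RuOrder.H] [IsSimpleGroup RuOrder.H] [Fintype (IrrCharacter RuOrder.H)] :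
    ∃ W29 W13 W7 : IrrCharacter RuOrder.H → ℤ,
      ColOK ⟨29, [(0, 0), (1, 2), (14, -1), (15, 1), (28, -2)], ((2 * 29 * 1 : ℕ) : ℤ), 2, true, ((2 : ℕ) : ℤ)⟩ W29 ∧
      ColOK ⟨13, [(0, 0), (1, 1), (2, 2), (3, 3), (12, -1), (11, -2), (10, -3)], ((1 * 13 * 4 : ℕ) : ℤ), 0, false,
        ((1 : ℕ) : ℤ)⟩ W13 ∧
      ColOK ⟨7, [(0, 0), (1, 1), (2, 2), (3, 3), (6, -1), (5, -2), (4, -3)], ((1 * 7 * 4 : ℕ) : ℤ), 0, false,
        ((1 : ℕ) : ℤ)⟩ W7 ∧ Orth W29 W13 ∧ Orth W29 W7 := by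
  have : Fact (Nat.Prime 29) := ⟨by norm_num⟩
  have : Fact (Nat.Prime 13) := ⟨by norm_num⟩
  have : Fact (Nat.Prime 7) := ⟨by norm_num⟩
  obtain ⟨P, W, hP, he, hc, hW⟩ := H653.Sieve.exists_col not_comm card_H orderOf_x (k := 1)
    (by rw [card_cent_of_29 orderOf_x]) 14 2
    [(0, 0), (1, 2), (14, -1), (15, 1), (28, -2)] 2 true (by decide +kernel)
  obtain ⟨P', W', hP', he', hc', hW'⟩ := H653.Sieve.exists_col not_comm card_H orderOf_y (k := 4)
    card_cent_y 12 1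
    [(0, 0), (1, 1), (2, 2), (3, 3), (12, -1), (11, -2), (10, -3)] 0 false (by decide +kernel)
  obtain ⟨P'', W'', hP'', he'', hc'', hW''⟩ := H653.Sieve.exists_col not_comm card_H orderOf_y7 (k := 4)
    card_cent_y7 6 1
    [(0, 0), (1, 1), (2, 2), (3, 3), (6, -1), (5, -2), (4, -3)] 0 false (by decide +kernel)
  exact ⟨W, W', W'', hW, hW', hW'', H653.Sieve.orth_of_ne (by norm_num) hP hP' hc hc' he he',
    H653.Sieve.orth_of_ne (by norm_num) hP hP'' hc hc'' he he''⟩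

/-- the conditions -/
theorem cond_of [Finite RuOrder.H] [IsSimpleGroup RuOrder.H] [Fintype (IrrCharacter RuOrder.H)]
    (χ : IrrCharacter RuOrder.H) : RuNum.cond (charDegree (χ : RuOrder.H → ℂ)) = true := by
  obtain ⟨W29, W13, W7, h29, h13, h7, -, -⟩ := cols
  have m13 := h13.mem χ
  have hsq : charDegree (χ : RuOrder.H → ℂ) * charDegree (χ : RuOrder.H → ℂ) ≤ 145926144000 := by
    by_cases h : (χ : RuOrder.H → ℂ) = 1
    · have h1 : charDegree (χ : RuOrder.H → ℂ) = 1 := by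
        apply Blocks.Basic.charDegree_of_eq
        rw [h, Pi.one_apply, Nat.cast_one]
      rw [h1]
      norm_num
    · have h1 := H495.Cod.sq_lt χ h
      rw [card_H, pow_two] at h1
      omega
  have hd : charDegree (χ : RuOrder.H → ℂ) ∈ charDegrees RuOrder.H := ⟨χ, rfl⟩
  have hns := no_small χ
  have hcs := RuDeg.cases hd
  change (charDegree (χ : RuOrder.H → ℂ) % 13, W13 χ) ∈ _ at m13
  generalize charDegree (χ : RuOrder.H → ℂ) = d at *
  unfold RuNum.cond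
  simp only [Bool.and_eq_true, Bool.or_eq_true, Bool.not_eq_true', Bool.or_eq_false_iff, beq_iff_eq, Nat.ble_eq,
    beq_eq_false_iff_ne]
  simp only [List.mem_cons, Prod.mk.injEq, List.not_mem_nil, or_false] at m13 hns
  refine ⟨⟨hsq, ?_⟩, ?_⟩
  · rcases hcs with h | h | ⟨h, h'⟩
    · right
      subst h
      exact ⟨by norm_num, by norm_num⟩
    · left
      exact ⟨h, by tauto⟩
    · right
      exact ⟨by tauto, by tauto⟩
  · rcases m13 with ⟨h, -⟩ | ⟨h, -⟩ | ⟨h, -⟩ | ⟨h, -⟩ | ⟨h, -⟩ | ⟨h, -⟩ | ⟨h, -⟩ <;> omega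

theorem dvd_of [Finite RuOrder.H] (χ : IrrCharacter RuOrder.H) :
    charDegree (χ : RuOrder.H → ℂ) ∣ 145926144000 := RuDeg.dvd_card ⟨χ, rfl⟩

/-- two orthogonal columns have opposite signs somewhere -/
theorem exists_neg [Finite RuOrder.H] [Fintype (IrrCharacter RuOrder.H)] {W W' : IrrCharacter RuOrder.H → ℤ}
    (h : Orth W W') (h1 : ∀ χ : IrrCharacter RuOrder.H, (χ : RuOrder.H → ℂ) = 1 → 0 < W χ * W' χ) :
    ∃ χ : IrrCharacter RuOrder.H, W χ * W' χ < 0 := by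
  by_contra hno
  push Not at hno
  have h2 := (Finset.sum_eq_zero_iff_of_nonneg (fun χ _ => hno χ)).1 h
  have h3 := h1 ⟨1, Core.isIrr_one⟩ rfl
  rw [h2 _ (Finset.mem_univ _)] at h3
  exact lt_irrefl _ h3

theorem exists_L13 [Finite RuOrder.H] [IsSimpleGroup RuOrder.H] : ∃ n ∈ L13, n ∈ charDegrees RuOrder.H := by
  have : Finite (IrrCharacter RuOrder.H) := Core.finite_irr
  have := Fintype.ofFinite (IrrCharacter RuOrder.H)
  obtain ⟨W29, W13, W7, h29, h13, h7, o13, o7⟩ := cols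
  obtain ⟨χ, hχ⟩ := exists_neg o13 fun χ h => by rw [h29.one χ h, h13.one χ h]; norm_num
  refine ⟨_, (mem_adm (dvd_of χ) (cond_of χ)).2.1 ?_, ⟨χ, rfl⟩⟩
  have a := h29.mem χ
  have b := h13.mem χ
  change (charDegree (χ : RuOrder.H → ℂ) % 29, W29 χ) ∈ _ at a
  change (charDegree (χ : RuOrder.H → ℂ) % 13, W13 χ) ∈ _ at b
  generalize charDegree (χ : RuOrder.H → ℂ) = d at *
  simp only [List.mem_cons, Prod.mk.injEq, List.not_mem_nil, or_false] at a b
  unfold neg13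
  simp only [Bool.and_eq_true, Bool.or_eq_true, beq_iff_eq, Nat.ble_eq]
  rcases a with ⟨a, a'⟩ | ⟨a, a'⟩ | ⟨a, a'⟩ | ⟨a, a'⟩ | ⟨a, a'⟩ <;>
    rcases b with ⟨b, b'⟩ | ⟨b, b'⟩ | ⟨b, b'⟩ | ⟨b, b'⟩ | ⟨b, b'⟩ | ⟨b, b'⟩ | ⟨b, b'⟩ <;>
    rw [a', b'] at hχ <;> first | (exfalso; revert hχ; norm_num; done) | omega

theorem exists_L7 [Finite RuOrder.H] [IsSimpleGroup RuOrder.H] : ∃ n ∈ L7, n ∈ charDegrees RuOrder.H := by
  have : Finite (IrrCharacter RuOrder.H) := Core.finite_irr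
  have := Fintype.ofFinite (IrrCharacter RuOrder.H)
  obtain ⟨W29, W13, W7, h29, h13, h7, o13, o7⟩ := cols
  obtain ⟨χ, hχ⟩ := exists_neg o7 fun χ h => by rw [h29.one χ h, h7.one χ h]; norm_num
  refine ⟨_, (mem_adm (dvd_of χ) (cond_of χ)).2.2 ?_, ⟨χ, rfl⟩⟩
  have a := h29.mem χ
  have b := h7.mem χ
  change (charDegree (χ : RuOrder.H → ℂ) % 29, W29 χ) ∈ _ at a
  change (charDegree (χ : RuOrder.H → ℂ) % 7, W7 χ) ∈ _ at b
  generalize charDegree (χ : RuOrder.H → ℂ) = d at *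
  simp only [List.mem_cons, Prod.mk.injEq, List.not_mem_nil, or_false] at a b
  unfold neg7
  simp only [Bool.and_eq_true, Bool.or_eq_true, beq_iff_eq, Nat.ble_eq]
  rcases a with ⟨a, a'⟩ | ⟨a, a'⟩ | ⟨a, a'⟩ | ⟨a, a'⟩ | ⟨a, a'⟩ <;>
    rcases b with ⟨b, b'⟩ | ⟨b, b'⟩ | ⟨b, b'⟩ | ⟨b, b'⟩ | ⟨b, b'⟩ | ⟨b, b'⟩ | ⟨b, b'⟩ <;>
    rw [a', b'] at hχ <;> first | (exfalso; revert hχ; norm_num; done) | omega

/-- the known degrees -/
theorem known : 378 ∈ charDegrees RuOrder.H ∧ 406 ∈ charDegrees RuOrder.H ∧ 783 ∈ charDegrees RuOrder.H ∧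
    3276 ∈ charDegrees RuOrder.H := by
  have e : charDegrees Cfsg.Spor.Ru = charDegrees RuOrder.H := RuCover.charDegrees_congr RuLat.Main.equiv
  obtain ⟨χ₁, χ₂, h1, h2, -⟩ := H289.Eight.RuDeg.exists_chars
  exact ⟨e ▸ H289.Eight.RuDeg.deg_378, e ▸ H289.Eight.RuDeg.deg_406,
    ⟨χ₁, Blocks.Basic.charDegree_of_eq h1⟩, ⟨χ₂, Blocks.Basic.charDegree_of_eq h2⟩⟩

/-- **SOLV for the model** -/
theorem solv_model : H704.S8.Solv.{u} (charDegrees RuOrder.H) := by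
  have hfin : Finite RuOrder.H := RuDeg.fin_H
  have := RuDeg.simple_H
  have : Finite (IrrCharacter RuOrder.H) := Core.finite_irr (G := RuOrder.H)
  have := Fintype.ofFinite (IrrCharacter RuOrder.H)
  have h1 : ∀ p ∈ [2, 3, 5, 7, 13, 29], Nat.Prime p := by
    intro p hp
    simp only [List.mem_cons, List.not_mem_nil, or_false] at hp
    rcases hp with rfl | rfl | rfl | rfl | rfl | rfl <;> norm_num
  have h2 : ∀ d ∈ charDegrees RuOrder.H, d ∈ Adm := by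
    rintro d ⟨χ, rfl⟩
    exact (mem_adm (dvd_of χ) (cond_of χ)).1
  have h3 : ∀ l ∈ [[378], [406], [783], [3276], L13, L7], ∃ n ∈ l, n ∈ charDegrees RuOrder.H := by
    intro l hl
    simp only [List.mem_cons, List.not_mem_nil, or_false] at hl
    obtain ⟨k1, k2, k3, k4⟩ := known
    rcases hl with rfl | rfl | rfl | rfl | rfl | rfl
    · exact ⟨378, List.mem_singleton.2 rfl, k1⟩
    · exact ⟨406, List.mem_singleton.2 rfl, k2⟩
    · exact ⟨783, List.mem_singleton.2 rfl, k3⟩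
    · exact ⟨3276, List.mem_singleton.2 rfl, k4⟩
    · exact exists_L13
    · exact exists_L7
  intro G _ _ hsol hD
  exact H497.S8.solv_of_chk2 382001 [2, 3, 5, 7, 13, 29] Adm [[378], [406], [783], [3276], L13, L7] h1 h2 h3
    RuNum.check hsol hD

/-- **SOLV for `Ru`** -/
theorem row {X : Type v} [Group X] (hX : Cfsg.Spor.IsoRu X) (D : Set ℕ) (hD : H704.S8.Deg 1 X D) :
    H704.S8.Solv.{u} D := by
  obtain ⟨e⟩ : Nonempty (X ≃* Cfsg.Spor.Ru) := hX
  rcases hD with rfl | ⟨h, -⟩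
  · intro G _ _ hsol hD
    rw [RuCover.charDegrees_congr (e.trans RuLat.Main.equiv)] at hD
    exact solv_model hsol hD
  · norm_num at h

end Cfsg.Agent.H1.S8.RuSolv
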